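import Groth.Prelude
import Mathlib.RingTheory.RegularLocalRing.Polynomial

/-!
The universal algebra `ℤ[a, x]/(f_1, …, f_n)` is a polynomial ring over `ℤ`: each constant
coefficient `a_{i,0}` is eliminated by the equation `f_i = 0`.
-/

namespace Groth.Agent.Synt43

open MvPolynomial Synt

variable (n d : ℕ)

/-- the zero index -/
def idx0 : UnivIdx n d := ⟨fun _ => 0, by simp⟩

lemma exponent_idx0 : (idx0 n d).exponent = 0 := by
  ext k; simp [idx0, UnivIdx.exponent]

/-- the variables which remain after elimination -/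
abbrev Rest : Type := Fin n ⊕ {j : Fin n × UnivIdx n d // j.2 ≠ idx0 n d}

abbrev S : Type := MvPolynomial (Rest n d) ℤ

noncomputable def restSum (i : Fin n) : S n d :=
  ∑ E : {E : UnivIdx n d // E ≠ idx0 n d},
    X (Sum.inr ⟨(i, E.1), E.2⟩) * E.1.exponent.prod fun k e => (X (Sum.inl k) : S n d) ^ e

noncomputable def coeffMap : UnivBase n d →ₐ[ℤ] S n d :=
  aeval fun j => if h : j.2 = idx0 n d then - restSum n d j.1 else X (Sum.inr ⟨j, h⟩)

noncomputable def fwd₀ : MvPolynomial (Fin n) (UnivBase n d) →+* S n d :=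
  eval₂Hom (coeffMap n d : UnivBase n d →+* S n d) fun k => X (Sum.inl k)

lemma fwd₀_univPoly (i : Fin n) : fwd₀ n d (univPoly n d i) = 0 := by
  classical
  simp only [fwd₀, univPoly, map_sum, eval₂Hom_monomial, RingHom.coe_coe, coeffMap, aeval_X]
  rw [← Finset.add_sum_erase _ _ (Finset.mem_univ (idx0 n d))]
  simp only [exponent_idx0, Finsupp.prod_zero_index, mul_one, dif_pos]
  rw [restSum, neg_add_eq_zero]
  refine Eq.symm ?_
  rw [Finset.sum_subtype (p := fun E => E ≠ idx0 n d) (h := fun E => by simp)]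
  refine Finset.sum_congr rfl fun E _ => ?_
  rw [dif_neg E.2]

lemma univIdeal_le_ker : univIdeal n d ≤ RingHom.ker (fwd₀ n d) :=
  Ideal.span_le.mpr (by rintro _ ⟨i, rfl⟩; exact fwd₀_univPoly n d i)

abbrev Q : Type := MvPolynomial (Fin n) (UnivBase n d) ⧸ univIdeal n d

noncomputable def fwd : Q n d →+* S n d :=
  Ideal.Quotient.lift _ (fwd₀ n d) fun _ h => univIdeal_le_ker n d h

noncomputable def bwd : S n d →+* Q n d :=
  eval₂Hom (Int.castRingHom _) (Sum.elim (fun k => Ideal.Quotient.mk (univIdeal n d) (X k))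
    (fun j => Ideal.Quotient.mk (univIdeal n d) (C (X j.1))))

lemma mk_const (i : Fin n) :
    Ideal.Quotient.mk (univIdeal n d) (C (X (i, idx0 n d))) = bwd n d (- restSum n d i) := by
  classical
  have h : Ideal.Quotient.mk (univIdeal n d) (univPoly n d i) = 0 :=
    Ideal.Quotient.eq_zero_iff_mem.mpr (Ideal.subset_span ⟨i, rfl⟩)
  rw [univPoly, map_sum, ← Finset.add_sum_erase _ _ (Finset.mem_univ (idx0 n d)),
    exponent_idx0] at h
  rw [show (monomial (0 : Fin n →₀ ℕ)) (X (i, idx0 n d) : UnivBase n d) = C (X (i, idx0 n d))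
    from rfl] at h
  rw [eq_neg_of_add_eq_zero_left h, map_neg, restSum, map_sum, neg_inj,
    Finset.sum_subtype (p := fun E => E ≠ idx0 n d) (h := fun E => by simp)]
  refine Finset.sum_congr rfl fun E _ => ?_
  rw [monomial_eq, map_mul, map_mul, Finsupp.prod, Finsupp.prod, map_prod, map_prod]
  simp [bwd]

noncomputable def equivQ : Q n d ≃+* S n d :=
  RingEquiv.ofRingHom (fwd n d) (bwd n d)
    (by
      refine MvPolynomial.ringHom_ext (fun _ => by simp) fun v => ?_
      rcases v with k | ⟨⟨i, E⟩, hE⟩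
      · simp [fwd, bwd, fwd₀]
      · simp [fwd, bwd, fwd₀, coeffMap, show E ≠ idx0 n d from hE])
    (by
      refine Ideal.Quotient.ringHom_ext ?_
      refine MvPolynomial.ringHom_ext (fun a => ?_) fun k => by simp [fwd, bwd, fwd₀]
      suffices H : ((bwd n d).comp (fwd n d)).comp ((Ideal.Quotient.mk (univIdeal n d)).comp C) =
          (Ideal.Quotient.mk (univIdeal n d)).comp C by
        simpa using RingHom.congr_fun H a
      refine MvPolynomial.ringHom_ext (fun _ => by simp) fun j => ?_
      obtain ⟨i, E⟩ := j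
      by_cases hE : E = idx0 n d
      · subst hE
        simp only [RingHom.comp_apply]
        rw [mk_const]
        congr 1
        rw [← mk_const]
        simp [fwd, fwd₀, coeffMap]
      · simp [fwd, bwd, fwd₀, coeffMap, hE])

noncomputable def equiv : UnivAlg n d ≃+* S n d := equivQ n d

theorem main : IsDomain (UnivAlg n d) ∧
    ∀ q : PrimeSpectrum (UnivAlg n d), IsRegularLocalRing (Localization.AtPrime q.asIdeal) := by
  refine ⟨(equiv n d).toMulEquiv.isDomain, fun q => ?_⟩
  have : IsRegularRing (UnivAlg n d) := IsRegularRing.of_ringEquiv (equiv n d).symm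
  exact IsRegularRing.isRegularLocalRing_localization _

end Groth.Agent.Synt43
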