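import Groth.Agent.Synt43.Univ

/-! An étale (hence quasi-finite) point of the universal algebra: `x = 0`, `f_i = x_i`. -/

namespace Groth.Agent.Synt43

open MvPolynomial Synt Algebra

variable (n d : ℕ)

noncomputable def pre :
    PreSubmersivePresentation (UnivBase n d) (Q n d) (Fin n) (Fin n) :=
  PreSubmersivePresentation.naive (v := univPoly n d) id Function.injective_id

noncomputable def jac : Q n d :=
  Ideal.Quotient.mk (univIdeal n d) (Matrix.det fun i j => pderiv i (univPoly n d j))

lemma pre_jacobian : (pre n d).jacobian = jac n d := by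
  classical
  rw [PreSubmersivePresentation.jacobian_eq_jacobiMatrix_det]
  have : (pre n d).jacobiMatrix = fun i j => pderiv i (univPoly n d j) := by
    ext i j
    rw [pre, PreSubmersivePresentation.jacobiMatrix_naive]
    rfl
  rw [this]; rfl

/-- evaluation at `x = 0`, `a_{i,E} = [x^E = x_i]` -/
noncomputable def pt₀ : MvPolynomial (Fin n) (UnivBase n d) →+* ℚ :=
  eval₂Hom (aeval fun j : Fin n × UnivIdx n d =>
    if j.2.exponent = Finsupp.single j.1 1 then (1 : ℚ) else 0).toRingHom fun _ => 0

lemma pt₀_univPoly (i : Fin n) : pt₀ n d (univPoly n d i) = 0 := by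
  classical
  rw [univPoly, map_sum]
  refine Finset.sum_eq_zero fun E _ => ?_
  rw [pt₀, eval₂Hom_monomial]
  by_cases h : E.exponent = Finsupp.single i 1
  · rw [h, Finsupp.prod_single_index (by simp)]; simp
  · simp [h]

noncomputable def pt : Q n d →+* ℚ :=
  Ideal.Quotient.lift _ (pt₀ n d) fun _ h =>
    (Ideal.span_le.mpr (by rintro _ ⟨i, rfl⟩; exact pt₀_univPoly n d i) :
      univIdeal n d ≤ RingHom.ker (pt₀ n d)) h

lemma pt₀_pderiv (hd : 1 ≤ d) (i j : Fin n) :
    pt₀ n d (pderiv i (univPoly n d j)) = if i = j then 1 else 0 := by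
  classical
  have hs : ∑ k, ((Pi.single j ⟨1, by omega⟩ : Fin n → Fin (d + 1)) k : ℕ) = 1 := by
    rw [Finset.sum_eq_single j] <;> simp +contextual [Pi.single_apply]
  let e : UnivIdx n d := ⟨Pi.single j ⟨1, by omega⟩, by omega⟩
  have he : e.exponent = Finsupp.single j 1 := by
    ext k
    by_cases hk : k = j
    · subst hk; simp [e, UnivIdx.exponent]
    · simp [e, UnivIdx.exponent, hk]
  have hu : ∀ E : UnivIdx n d, E.exponent = Finsupp.single j 1 → E = e := fun E h =>
    Subtype.ext (funext fun k => Fin.ext (by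
      simpa [UnivIdx.exponent] using DFunLike.congr_fun (h.trans he.symm) k))
  rw [univPoly, map_sum, map_sum, Finset.sum_eq_single e]
  · rw [pderiv_monomial, pt₀, eval₂Hom_monomial, he]
    by_cases hij : i = j
    · subst hij; simp [he]
    · simp [hij, Ne.symm hij]
  · intro E _ hE
    rw [pderiv_monomial, pt₀, eval₂Hom_monomial]
    simp only [if_neg fun h => hE (hu E h), AlgHom.toRingHom_eq_coe, map_mul, RingHom.coe_coe,
      aeval_X, zero_mul]
  · intro h; exact absurd (Finset.mem_univ e) h

lemma pt_jac (hd : 1 ≤ d) : pt n d (jac n d) = 1 := by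
  rw [pt, jac, Ideal.Quotient.lift_mk, RingHom.map_det]
  convert Matrix.det_one (n := Fin n) (R := ℚ)
  ext i j
  rw [RingHom.mapMatrix_apply]
  simpa [Matrix.map_apply, Matrix.one_apply] using pt₀_pderiv n d hd i j

lemma etale_away : Algebra.Etale (UnivBase n d) (Localization.Away (jac n d)) := by
  classical
  let P := (PreSubmersivePresentation.localizationAway (Localization.Away (jac n d)) (jac n d)).comp
    (pre n d)
  have hP : IsUnit P.jacobian := by
    rw [PreSubmersivePresentation.comp_jacobian_eq_jacobian_smul_jacobian, pre_jacobian,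
      Algebra.smul_def, IsUnit.mul_iff, PreSubmersivePresentation.localizationAway_jacobian]
    exact ⟨IsLocalization.Away.algebraMap_isUnit _, IsLocalization.Away.algebraMap_isUnit _⟩
  let P' : SubmersivePresentation (UnivBase n d) (Localization.Away (jac n d))
      (Unit ⊕ Fin n) (Unit ⊕ Fin n) := ⟨P, hP⟩
  have : IsStandardSmoothOfRelativeDimension 0 (UnivBase n d) (Localization.Away (jac n d)) :=
    P'.isStandardSmoothOfRelativeDimension (by simp [Presentation.dimension])
  infer_instance

/-- the jacobian, in `UnivAlg` -/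
noncomputable def jacA : UnivAlg n d := jac n d

/-- the point, on `UnivAlg` -/
noncomputable def ptA : UnivAlg n d →+* ℚ := pt n d

lemma ptA_jacA (hd : 1 ≤ d) : ptA n d (jacA n d) = 1 := pt_jac n d hd

lemma etale_awayA : Algebra.Etale (UnivBase n d) (Localization.Away (jacA n d)) := etale_away n d

theorem main2 (hd : 1 ≤ d) : ∃ q : PrimeSpectrum (UnivAlg n d),
    QuasiFiniteAt (UnivBase n d) q.asIdeal ∧ IsEtaleAt (UnivBase n d) q.asIdeal := by
  have : FiniteType (UnivBase n d) (UnivAlg n d) :=
    (inferInstance : FiniteType (UnivBase n d) (MvPolynomial (Fin n) (UnivBase n d))).of_surjective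
      (UnivAlg.mk n d) (Ideal.Quotient.mk_surjective)
  have : (RingHom.ker (ptA n d)).IsPrime := RingHom.ker_isPrime _
  refine ⟨⟨RingHom.ker (ptA n d), this⟩, ?_⟩
  have hj : jacA n d ∉ RingHom.ker (ptA n d) := by
    simp [RingHom.mem_ker, ptA_jacA n d hd]
  have h : IsEtaleAt (UnivBase n d) (RingHom.ker (ptA n d)) := by
    have := etale_awayA n d
    exact (basicOpen_subset_etaleLocus_iff (f := jacA n d)).mpr inferInstance
      (show (⟨RingHom.ker (ptA n d), RingHom.ker_isPrime _⟩ : PrimeSpectrum (UnivAlg n d)) ∈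
        PrimeSpectrum.basicOpen (jacA n d) from hj)
  exact ⟨inferInstanceAs (QuasiFinite (UnivBase n d) (Localization.AtPrime (RingHom.ker (ptA n d)))),
    h⟩

end Groth.Agent.Synt43
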